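import Cfsg.Agent.Lib.ClassCount.Symplectic.Signed
import Cfsg.Agent.Lib.ClassCount.Unitary.Classes
import Cfsg.Agent.Lib.Classical.ClassTheory.IsometryConj

/-!
# Data determining an isometry of an alternating space in odd characteristic

The generalized eigenspaces of `1` and `-1` carry signed partitions, the rest a linear class.
-/

set_option autoImplicit false

namespace CfsgLib.ClassNumber

open Polynomial
open LinearMap (BilinForm)
open CfsgLib.Classical CfsgLib.Classical.ClassTheory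

universe u

variable {F : Type u} [Field F] {V : Type u} [AddCommGroup V] [Module F V]
variable {V' : Type u} [AddCommGroup V'] [Module F V']

/-- `a - c`. -/
def shiftEnd (a : V ≃ₗ[F] V) (c : F) : Module.End F V := (a : V →ₗ[F] V) - c • 1

theorem shiftEnd_apply (a : V ≃ₗ[F] V) (c : F) (v : V) : shiftEnd a c v = a v - c • v := rfl

theorem shiftEnd_pow_comm (a : V ≃ₗ[F] V) (c : F) (k : ℕ) (v : V) :
    (shiftEnd a c ^ k) (a v) = a ((shiftEnd a c ^ k) v) := by
  induction k generalizing v with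
  | zero => rfl
  | succ k ih =>
    rw [pow_succ', Module.End.mul_apply, Module.End.mul_apply, ih, shiftEnd_apply, shiftEnd_apply, map_sub, map_smul]

/-- The generalized eigenspace. -/
noncomputable def genKer (a : V ≃ₗ[F] V) (c : F) : Submodule F V :=
  LinearMap.ker (shiftEnd a c ^ Module.finrank F V)

/-- Its complement. -/
noncomputable def genRan (a : V ≃ₗ[F] V) (c : F) : Submodule F V :=
  LinearMap.range (shiftEnd a c ^ Module.finrank F V)

theorem genKer_map (a : V ≃ₗ[F] V) (c : F) : ∀ v ∈ genKer a c, a v ∈ genKer a c := fun v hv => by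
  rw [genKer, LinearMap.mem_ker, shiftEnd_pow_comm, LinearMap.mem_ker.1 hv, map_zero]

theorem genRan_map (a : V ≃ₗ[F] V) (c : F) : ∀ v ∈ genRan a c, a v ∈ genRan a c := by
  rintro _ ⟨w, rfl⟩
  exact ⟨a w, shiftEnd_pow_comm a c _ w⟩

variable [FiniteDimensional F V]

/-- The restriction of `a` to an invariant subspace. -/
noncomputable def restrictInv (a : V ≃ₗ[F] V) (W : Submodule F V) (h : ∀ v ∈ W, a v ∈ W) : W ≃ₗ[F] W :=
  LinearEquiv.ofBijective ((a : V →ₗ[F] V).restrict h)
    (have hi : Function.Injective ((a : V →ₗ[F] V).restrict h) :=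
      fun _ _ e => Subtype.ext (a.injective (congrArg Subtype.val e))
    ⟨hi, LinearMap.injective_iff_surjective.1 hi⟩)

/-- `a` on the generalized eigenspace. -/
noncomputable def onKer (a : V ≃ₗ[F] V) (c : F) : genKer a c ≃ₗ[F] genKer a c :=
  restrictInv a _ (genKer_map a c)

/-- `a` on the complement. -/
noncomputable def onRan (a : V ≃ₗ[F] V) (c : F) : genRan a c ≃ₗ[F] genRan a c :=
  restrictInv a _ (genRan_map a c)

theorem coe_onKer (a : V ≃ₗ[F] V) (c : F) (v : genKer a c) : (onKer a c v : V) = a v := rfl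

theorem coe_onRan (a : V ≃ₗ[F] V) (c : F) (v : genRan a c) : (onRan a c v : V) = a v := rfl

theorem isCompl_gen (a : V ≃ₗ[F] V) (c : F) : IsCompl (genKer a c) (genRan a c) := by
  refine (Submodule.isCompl_iff_disjoint _ _ ?_).2 ?_
  · rw [add_comm]
    exact (LinearMap.finrank_range_add_finrank_ker _).ge
  rw [Submodule.disjoint_def]
  rintro x hx ⟨y, rfl⟩
  rw [genKer, LinearMap.mem_ker, ← Module.End.mul_apply, ← pow_add] at hx
  have h := Module.End.ker_pow_eq_ker_pow_finrank_of_le (f := shiftEnd a c)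
    (Nat.le_add_right (Module.finrank F V) (Module.finrank F V))
  exact LinearMap.mem_ker.1 (h ▸ LinearMap.mem_ker.2 hx : y ∈ LinearMap.ker (shiftEnd a c ^ Module.finrank F V))

theorem nilpotent_onKer (a : V ≃ₗ[F] V) (c : F) : IsNilpotent (shiftEnd (onKer a c) c) := by
  refine ⟨Module.finrank F V, LinearMap.ext fun v => Subtype.ext ?_⟩
  have hk : ∀ k (v : genKer a c), ((shiftEnd (onKer a c) c ^ k) v : V) = (shiftEnd a c ^ k) v := by
    intro k
    induction k with
    | zero => intro v; rfl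
    | succ k ih => intro v; rw [pow_succ, pow_succ, Module.End.mul_apply, Module.End.mul_apply, ih]; rfl
  rw [hk]
  exact LinearMap.mem_ker.1 v.2

theorem shiftEnd_onRan_injective (a : V ≃ₗ[F] V) (c : F) (v : genRan a c) (hv : a (v : V) = c • (v : V)) : v = 0 := by
  refine Subtype.ext (Submodule.disjoint_def.1 (isCompl_gen a c).disjoint _ ?_ v.2)
  have h1 : shiftEnd a c (v : V) = 0 := by rw [shiftEnd_apply, hv, sub_self]
  rw [genKer, LinearMap.mem_ker]
  rcases Nat.eq_zero_or_pos (Module.finrank F V) with h | h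
  · haveI : Subsingleton V := Module.finrank_zero_iff.1 h
    exact Subsingleton.elim _ _
  · obtain ⟨k, hk⟩ : ∃ k, Module.finrank F V = k + 1 := ⟨_, (Nat.sub_add_cancel h).symm⟩
    rw [hk, pow_succ, Module.End.mul_apply, h1, map_zero]

omit [FiniteDimensional F V] in
theorem perp_gen {B : BilinForm F V} (hA : B.IsAlt) (a : V ≃ₗ[F] V) (ha : ∀ u v, B (a u) (a v) = B u v)
    {c : F} (hc : c * c = 1) :
    ∀ k ∈ genKer a c, ∀ r ∈ genRan a c, B k r = 0 ∧ B r k = 0 := by
  have key : ∀ j k u, (shiftEnd a c ^ j) k = 0 → B k ((shiftEnd a c ^ j) u) = 0 := by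
    intro j
    induction j with
    | zero => intro k u hk; rw [show k = 0 from hk, map_zero, LinearMap.zero_apply]
    | succ j ih =>
      intro k u hk
      rw [pow_succ', Module.End.mul_apply, shiftEnd_apply, map_sub, map_smul, smul_eq_mul]
      set w := (shiftEnd a c ^ j) u
      have h1 : B k (a w) = B (a.symm k) w := by
        conv_lhs => rw [← a.apply_symm_apply k, ha]
      have h2 : (shiftEnd a c ^ j) (shiftEnd a c (a.symm k)) = 0 := by
        rw [← Module.End.mul_apply, ← pow_succ]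
        apply a.injective
        rw [← shiftEnd_pow_comm, a.apply_symm_apply, hk, map_zero]
      have h3 := ih _ u h2
      rw [shiftEnd_apply, a.apply_symm_apply, map_sub, map_smul, LinearMap.sub_apply, LinearMap.smul_apply,
        smul_eq_mul] at h3
      rw [h1]
      linear_combination (-c) * h3 - B (a.symm k) w * hc
  rintro k hk _ ⟨u, rfl⟩
  have := key _ k u (LinearMap.mem_ker.1 hk)
  exact ⟨this, by rw [← LinearMap.IsAlt.neg hA, this, neg_zero]⟩

theorem restrict_gen {B : BilinForm F V} (hA : B.IsAlt) (hB : B.Nondegenerate) (a : V ≃ₗ[F] V)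
    (ha : ∀ u v, B (a u) (a v) = B u v) {c : F} (hc : c * c = 1) :
    ((B.restrict (genKer a c)).IsAlt ∧ (B.restrict (genKer a c)).Nondegenerate ∧
        ∀ u v, B.restrict (genKer a c) (onKer a c u) (onKer a c v) = B.restrict (genKer a c) u v) ∧
      ((B.restrict (genRan a c)).IsAlt ∧ (B.restrict (genRan a c)).Nondegenerate ∧
        ∀ u v, B.restrict (genRan a c) (onRan a c u) (onRan a c v) = B.restrict (genRan a c) u v) := by
  obtain ⟨n0, n1⟩ := nondegenerate_of_isCompl (isCompl_gen a c) hB (perp_gen hA a ha hc)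
  exact ⟨⟨fun v => hA _, n0, fun u v => ha _ _⟩, ⟨fun v => hA _, n1, fun u v => ha _ _⟩⟩

variable [FiniteDimensional F V']

theorem glue_gen [Finite F] {B : BilinForm F V} (hA : B.IsAlt) (a : V ≃ₗ[F] V) (ha : ∀ u v, B (a u) (a v) = B u v)
    {B' : BilinForm F V'} (hA' : B'.IsAlt) (a' : V' ≃ₗ[F] V') (ha' : ∀ u v, B' (a' u) (a' v) = B' u v)
    {c : F} (hc : c * c = 1) (f0 : genKer a c ≃ₗ[F] genKer a' c) (f1 : genRan a c ≃ₗ[F] genRan a' c)
    (h0 : ∀ v, f0 (onKer a c v) = onKer a' c (f0 v)) (h1 : ∀ v, f1 (onRan a c v) = onRan a' c (f1 v))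
    (h0b : ∀ u v, B'.restrict (genKer a' c) (f0 u) (f0 v) = B.restrict (genKer a c) u v)
    (h1b : ∀ u v, B'.restrict (genRan a' c) (f1 u) (f1 v) = B.restrict (genRan a c) u v) :
    ∃ f : V ≃ₗ[F] V', (∀ v, f (a v) = a' (f v)) ∧ ∀ u v, B' (f u) (f v) = B u v := by
  obtain ⟨f, hfk, hfr, hfb⟩ := exists_glue (isCompl_gen a c) (isCompl_gen a' c) (perp_gen hA a ha hc)
    (perp_gen hA' a' ha' hc) f0 f1 h0b h1b
  refine ⟨f, fun v => ?_, hfb⟩
  obtain ⟨k, r, hk, hr, rfl⟩ := Submodule.codisjoint_iff_exists_add_eq.1 (isCompl_gen a c).codisjoint v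
  rw [map_add, map_add, map_add, map_add]
  congr 1
  · rw [← coe_onKer a c ⟨k, hk⟩, hfk, h0, coe_onKer, hfk ⟨k, hk⟩]
  · rw [← coe_onRan a c ⟨r, hr⟩, hfr, h1, coe_onRan, hfr ⟨r, hr⟩]

/-- The data of `a` with `a - c` nilpotent: a signed partition of its Cayley transform. -/
def PartData (B : BilinForm F V) (a : V ≃ₗ[F] V) (c : F) (μ : Multiset ℕ) (S : Finset ℕ) : Prop :=
  ∃ N : Module.End F V, IsNilpotent N ∧ (∀ v, a (v - N v) = c • (v + N v)) ∧ HasSign B N μ S

theorem exists_partData (h2 : (2 : F) ≠ 0) {B : BilinForm F V} (hA : B.IsAlt) (hB : B.Nondegenerate)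
    (a : V ≃ₗ[F] V) (ha : ∀ u v, B (a u) (a v) = B u v) {c : F} (hc : c * c = 1)
    (hnil : IsNilpotent (shiftEnd a c)) : ∃ μ S, PartData B a c μ S := by
  set U := shiftEnd a c
  let Pl : Module.End F V := (a : V →ₗ[F] V) + c • 1
  have h2c : (2 * c) • (1 : Module.End F V) + U = Pl := by
    simp only [U, Pl, shiftEnd, mul_smul, two_smul]
    abel
  have hu2 : IsUnit ((2 * c) • (1 : Module.End F V)) := by
    rw [← Algebra.algebraMap_eq_smul_one]
    exact (IsUnit.mk0 _ (mul_ne_zero h2 fun h => by simp [h] at hc)).map _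
  have hcomm : Commute U ((2 * c) • (1 : Module.End F V)) := (Commute.one_right U).smul_right _
  obtain ⟨W, hW⟩ := h2c ▸ hnil.isUnit_add_left_of_commute hu2 hcomm
  set N : Module.End F V := U * ((W⁻¹ : (Module.End F V)ˣ) : Module.End F V)
  have hWv : ∀ v, Pl (((W⁻¹ : (Module.End F V)ˣ) : Module.End F V) v) = v := fun v => by
    rw [← hW, ← Module.End.mul_apply, Units.mul_inv, Module.End.one_apply]
  have hWU : Commute ((W⁻¹ : (Module.End F V)ˣ) : Module.End F V) U := by
    refine Commute.units_inv_left ?_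
    rw [hW, ← h2c]
    exact hcomm.symm.add_left (Commute.refl U)
  have hN : IsNilpotent N := hWU.symm.isNilpotent_mul_right hnil
  have key : ∀ v, a (v - N v) = c • (v + N v) := fun v => by
    obtain ⟨w, rfl⟩ : ∃ w, Pl w = v := ⟨_, hWv v⟩
    have hw : ((W⁻¹ : (Module.End F V)ˣ) : Module.End F V) (Pl w) = w := by
      rw [← hW, ← Module.End.mul_apply, Units.inv_mul, Module.End.one_apply]
    show a (Pl w - U _) = c • (Pl w + U _)
    rw [hw]
    show a ((a w + c • w) - (a w - c • w)) = c • ((a w + c • w) + (a w - c • w))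
    rw [add_sub_sub_cancel, map_add, map_smul, add_add_sub_cancel, smul_add]
  obtain ⟨μ, S, h⟩ := exists_hasSign h2 hA hB N hN fun u v => by
    obtain ⟨x, rfl⟩ : ∃ x, Pl x = u := ⟨_, hWv u⟩
    obtain ⟨y, rfl⟩ : ∃ y, Pl y = v := ⟨_, hWv v⟩
    have hw : ∀ w, ((W⁻¹ : (Module.End F V)ˣ) : Module.End F V) (Pl w) = w := fun w => by
      rw [← hW, ← Module.End.mul_apply, Units.inv_mul, Module.End.one_apply]
    show B (U _) (Pl y) = -B (Pl x) (U _)
    rw [hw, hw]
    show B (a x - c • x) (a y + c • y) = -B (a x + c • x) (a y - c • y)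
    simp only [map_add, map_sub, map_smul, LinearMap.add_apply, LinearMap.sub_apply, LinearMap.smul_apply,
      smul_eq_mul, ha]
    linear_combination (-2 * B x y) * hc
  exact ⟨μ, S, N, hN, key, h⟩

omit [FiniteDimensional F V] [FiniteDimensional F V'] in
theorem PartData.exists_isometry [Finite F] {p : ℕ} [Fact p.Prime] [CharP F p] (hp : p ≠ 2) (h2 : (2 : F) ≠ 0)
    {B : BilinForm F V} {a : V ≃ₗ[F] V} {B' : BilinForm F V'} {a' : V' ≃ₗ[F] V'} {c : F} {μ : Multiset ℕ}
    {S : Finset ℕ} (h : PartData B a c μ S) (h' : PartData B' a' c μ S) :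
    ∃ f : V ≃ₗ[F] V', (∀ v, f (a v) = a' (f v)) ∧ ∀ u v, B' (f u) (f v) = B u v := by
  obtain ⟨N, hN, hkey, hs⟩ := h
  obtain ⟨N', -, hkey', hs'⟩ := h'
  obtain ⟨f, hf, hfb⟩ := hs.exists_isometry hp h2 hs'
  refine ⟨f, fun v => ?_, hfb⟩
  obtain ⟨w, rfl⟩ : ∃ w, w - N w = v := ((Module.End.isUnit_iff _).1 hN.isUnit_one_sub).2 v
  rw [hkey, map_smul, map_add, hf, map_sub, hf, hkey']

/-- The data of an isometry. -/
def HasData (B : BilinForm F V) (a : V ≃ₗ[F] V) (μ μ' : Multiset ℕ) (S S' : Finset ℕ) (Q : ℕ → F[X]) : Prop :=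
  PartData (B.restrict (genKer a 1)) (onKer a 1) 1 μ S ∧
    PartData ((B.restrict (genRan a 1)).restrict (genKer (onRan a 1) (-1))) (onKer (onRan a 1) (-1)) (-1) μ' S' ∧
    ∃ D : Decomp (onRan (onRan a 1) (-1)).toLinearMap, ∀ k, k ≠ 0 → D.part k = Q k

omit [FiniteDimensional F V] in
theorem HasSign.finrank {B : BilinForm F V} {N : Module.End F V} {μ : Multiset ℕ} {S : Finset ℕ}
    (h : HasSign B N μ S) : μ.sum = Module.finrank F V := h.2.1

theorem HasData.finrank_rest {B : BilinForm F V} {a : V ≃ₗ[F] V} {μ μ' : Multiset ℕ} {S S' : Finset ℕ}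
    {Q : ℕ → F[X]} (h : HasData B a μ μ' S S' Q) :
    μ.sum + μ'.sum + Module.finrank F (genRan (onRan a 1) (-1)) = Module.finrank F V := by
  obtain ⟨⟨_, -, -, h1⟩, ⟨_, -, -, h2⟩, -⟩ := h
  rw [h1.finrank, h2.finrank, add_assoc, Submodule.finrank_add_eq_of_isCompl (isCompl_gen _ _),
    Submodule.finrank_add_eq_of_isCompl (isCompl_gen _ _)]

/-- Transport of a decomposition to another space. -/
noncomputable def Decomp.moveTo {T : Module.End F V} (D : Decomp T) {T' : Module.End F V'} (L : V ≃ₗ[F] V')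
    (h : ∀ v, L (T v) = T' (L v)) : Decomp T' where
  ι := D.ι
  p := D.p
  e := D.e
  monic := D.monic
  irr := D.irr
  Φ := L.symm.trans D.Φ
  comm v i := by
    obtain ⟨w, rfl⟩ := L.surjective v
    rw [← h]
    simp [D.comm]

/-- Linear equivalence of automorphisms with equal parts. -/
theorem exists_equiv_of_part_eq {b : V ≃ₗ[F] V} {b' : V' ≃ₗ[F] V'} (D : Decomp b.toLinearMap)
    (D' : Decomp b'.toLinearMap) (hfr : Module.finrank F V = Module.finrank F V')
    (h : ∀ k, k ≠ 0 → D.part k = D'.part k) : ∃ L : V ≃ₗ[F] V', ∀ v, L (b v) = b' (L v) := by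
  let L₀ : V ≃ₗ[F] V' := LinearEquiv.ofFinrankEq V V' hfr
  let T : Module.End F V := ((L₀.trans b').trans L₀.symm).toLinearMap
  obtain ⟨L, hL⟩ := D.exists_equiv_of_tup_eq (D'.moveTo (T' := T) L₀.symm fun v => by simp [T]) b.surjective
    ((L₀.trans b').trans L₀.symm).surjective rfl (Subtype.ext (funext fun i => (h _ (by omega)).trans (by rfl)))
  refine ⟨L.trans L₀, fun v => ?_⟩
  have := hL v
  simp only [T, LinearEquiv.coe_coe] at this
  simp [this]

theorem HasData.exists_isometry [Finite F] {p : ℕ} [Fact p.Prime] [CharP F p] (hp : p ≠ 2) (h2 : (2 : F) ≠ 0)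
    {B : BilinForm F V} (hA : B.IsAlt) (hB : B.Nondegenerate) {a : V ≃ₗ[F] V} (ha : ∀ u v, B (a u) (a v) = B u v)
    {B' : BilinForm F V'} (hA' : B'.IsAlt) (hB' : B'.Nondegenerate) {a' : V' ≃ₗ[F] V'}
    (ha' : ∀ u v, B' (a' u) (a' v) = B' u v) (hfr : Module.finrank F V = Module.finrank F V')
    {μ μ' : Multiset ℕ} {S S' : Finset ℕ} {Q : ℕ → F[X]}
    (h : HasData B a μ μ' S S' Q) (h' : HasData B' a' μ μ' S S' Q) :
    ∃ f : V ≃ₗ[F] V', (∀ v, f (a v) = a' (f v)) ∧ ∀ u v, B' (f u) (f v) = B u v := by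
  have e1 := h.finrank_rest
  have e2 := h'.finrank_rest
  obtain ⟨hp1, hp2, D, hD⟩ := h
  obtain ⟨hp1', hp2', D', hD'⟩ := h'
  have hm : (-1 : F) * -1 = 1 := by ring
  obtain ⟨-, hA1, hB1, ha1⟩ := restrict_gen hA hB a ha (one_mul 1)
  obtain ⟨-, hA1', hB1', ha1'⟩ := restrict_gen hA' hB' a' ha' (one_mul 1)
  obtain ⟨-, hA2, hB2, ha2⟩ := restrict_gen hA1 hB1 (onRan a 1) ha1 hm
  obtain ⟨-, hA2', hB2', ha2'⟩ := restrict_gen hA1' hB1' (onRan a' 1) ha1' hm
  obtain ⟨f0, hf0, hf0b⟩ := hp1.exists_isometry hp h2 hp1'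
  obtain ⟨f2, hf2, hf2b⟩ := hp2.exists_isometry hp h2 hp2'
  obtain ⟨L, hL⟩ := exists_equiv_of_part_eq D D' (by omega) fun k hk => (hD k hk).trans (hD' k hk).symm
  obtain ⟨f3, hf3, hf3b⟩ := exists_isometric_of_fpf (-1) hB2
    (fun u v => by rw [← LinearMap.IsAlt.neg hA2 u v]; ring) hB2'
    (fun u v => by rw [← LinearMap.IsAlt.neg hA2' u v]; ring) (onRan (onRan a 1) (-1)) ha2
    (onRan (onRan a' 1) (-1)) ha2' L hL fun v hv => by
      set b := onRan (onRan a 1) (-1)
      have hx : b v + v = 0 := by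
        refine Subtype.ext (shiftEnd_onRan_injective a 1 ((b v + v : _) : genRan a 1) ?_)
        rw [one_smul]
        show ((b (b v + v) : genRan (onRan a 1) (-1)) : genRan a 1).1 = _
        rw [map_add, hv, add_comm]
      refine shiftEnd_onRan_injective (onRan a 1) (-1) v ?_
      rw [neg_one_smul]
      exact congrArg Subtype.val (eq_neg_of_add_eq_zero_left hx)
  obtain ⟨f1, hf1, hf1b⟩ := glue_gen hA1 (onRan a 1) ha1 hA1' (onRan a' 1) ha1' hm f2 f3 hf2 hf3 hf2b hf3b
  exact glue_gen hA a ha hA' a' ha' (one_mul 1) f0 f1 hf0 hf1 hf0b hf1b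

omit [FiniteDimensional F V] in
theorem sum_part_degree {T : Module.End F V} (D : Decomp T) {N : ℕ} (hN : Module.finrank F V ≤ N) :
    ∑ j : Fin N, (1 + (j : ℕ)) * (D.part (1 + j)).natDegree = Module.finrank F V := by
  classical
  rw [D.finrank_eq, ← Finset.sum_fiberwise_of_maps_to (g := D.e) (t := Finset.range (N + 1))
    (fun i _ => Finset.mem_range.2 (Nat.lt_succ_of_le ((D.e_le rfl i).trans hN)))
    (fun i => D.e i * (D.p i).natDegree), Finset.sum_range_succ',
    Finset.sum_eq_zero (s := Finset.univ.filter fun i => D.e i = 0) (fun i hi => by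
      rw [(Finset.mem_filter.1 hi).2, zero_mul]), add_zero, ← Fin.sum_univ_eq_sum_range
      (fun k => ∑ i ∈ Finset.univ.filter (fun i => D.e i = k + 1), D.e i * (D.p i).natDegree)]
  refine Finset.sum_congr rfl fun k _ => ?_
  rw [D.natDegree_part, Finset.mul_sum, add_comm 1 (k : ℕ)]
  exact Finset.sum_congr rfl fun i hi => by rw [(Finset.mem_filter.1 hi).2]

omit [FiniteDimensional F V] in
theorem part_eq_one_of_lt {T : Module.End F V} (D : Decomp T) {k : ℕ} (hk : Module.finrank F V < k) :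
    D.part k = 1 :=
  Finset.prod_eq_one fun i hi => absurd (D.e_le rfl i) (by rw [(Finset.mem_filter.1 hi).2]; omega)

variable [Fintype F]

theorem part_props {B : BilinForm F V} (hB : B.Nondegenerate) {b : V ≃ₗ[F] V}
    (hb : ∀ u v, B (b u) (b v) = B u v) (D : Decomp b.toLinearMap) (k : ℕ) (hk : k ≠ 0) :
    (D.part k).coeff 0 ≠ 0 ∧ recipPoly (D.part k) = D.part k ∧
      ∀ c : F, (∀ v, b v = c • v → v = 0) → (D.part k).eval c ≠ 0 := by
  classical
  refine ⟨?_, ?_, fun c hc => ?_⟩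
  · show (∏ i ∈ Finset.univ.filter (fun i => D.e i = k), D.p i).coeff 0 ≠ 0
    rw [Polynomial.coeff_zero_prod]
    exact Finset.prod_ne_zero_iff.2 fun i hi =>
      D.coeff_zero_ne b.surjective i (by rw [(Finset.mem_filter.1 hi).2]; exact hk)
  · rcases Nat.lt_or_ge (Module.finrank F V) k with hlt | hle
    · rw [part_eq_one_of_lt D hlt, recipPoly_one]
    set r := Module.finrank F V with hr
    let L : V ≃ₗ[F] (Fin r → F) := (Module.finBasis F V).equivFun
    let T : Module.End F (Fin r → F) := ((L.symm.trans b).trans L).toLinearMap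
    let T' : Module.End F (Fin r → F) := ((L.symm.trans b.symm).trans L).toLinearMap
    let M := Matrix.toLinAlgEquiv'.symm T
    let M' := Matrix.toLinAlgEquiv'.symm T'
    have h1 : M * M' = 1 := by
      rw [← map_mul, ← map_one Matrix.toLinAlgEquiv'.symm]
      exact congrArg _ (LinearMap.ext fun v => by simp [T, T'])
    let g : GL (Fin r) F := ⟨M, M', h1, mul_eq_one_comm.1 h1⟩
    have hg : endo (g : Matrix (Fin r) (Fin r) F) = T := AlgEquiv.apply_symm_apply _ _
    let G := LinearMap.toMatrix₂' F (B.compl₁₂ L.symm.toLinearMap L.symm.toLinearMap)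
    have hG : ∀ u v, B (L.symm u) (L.symm v) = u ⬝ᵥ Matrix.mulVec G v := fun u v => by
      rw [← Matrix.toLinearMap₂'_apply', Matrix.toLinearMap₂'_toMatrix']
      rfl
    have hMG : Matrix.transpose M * G * M = G := by
      apply Matrix.toBilin'.injective
      refine LinearMap.ext₂ fun x y => ?_
      rw [Matrix.toBilin'_apply', Matrix.toBilin'_apply', ← Matrix.mulVec_mulVec, ← Matrix.mulVec_mulVec,
        Matrix.dotProduct_mulVec, Matrix.vecMul_transpose]
      have hMv : ∀ w, Matrix.mulVec M w = L (b (L.symm w)) := fun w => LinearMap.congr_fun hg w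
      rw [hMv, hMv, ← hG, ← hG]
      simp [hb]
    have hGu : G.det ≠ 0 := fun h0 => by
      obtain ⟨y, hy0, hy⟩ := Matrix.exists_mulVec_eq_zero_iff.2 h0
      refine hy0 ?_
      obtain ⟨w, rfl⟩ := L.surjective y
      rw [hB.2 w fun u => by
        rw [← L.symm_apply_apply u, ← L.symm_apply_apply w, hG, hy, dotProduct_zero], map_zero]
    let Gu : GL (Fin r) F := Matrix.GeneralLinearGroup.mkOfDetNeZero G hGu
    let Mt : GL (Fin r) F := ⟨Matrix.transpose M, Matrix.transpose M',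
      by rw [← Matrix.transpose_mul, mul_eq_one_comm.1 h1, Matrix.transpose_one],
      by rw [← Matrix.transpose_mul, h1, Matrix.transpose_one]⟩
    have hrel : Mt * Gu * g = Gu := Units.ext hMG
    have hc1 : IsConj g⁻¹ Mt := isConj_iff.2 ⟨Gu, by
      rw [mul_inv_eq_iff_eq_mul, mul_inv_eq_iff_eq_mul, hrel]⟩
    have htup : tupGL g⁻¹ = tupGL g :=
      (tupGL_of_isConj hc1).trans (tupGL_of_isConj (isConj_of_transpose (g := g) (h := Mt) rfl)).symm
    have hi := tupGL_inv g ⟨k - 1, by omega⟩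
    rw [htup] at hi
    have hD : (tupGL g).1 ⟨k - 1, by omega⟩ = D.part k := by
      rw [tupGL_eq_of rfl (D.moveTo (T' := endo (g : Matrix (Fin r) (Fin r) F)) L fun v => by
        rw [hg]; simp [T])]
      show D.part (1 + (k - 1)) = _
      rw [show 1 + (k - 1) = k by omega]
    rw [hD] at hi
    exact hi.symm
  · intro h0
    rw [Decomp.part, eval_prod, Finset.prod_eq_zero_iff] at h0
    obtain ⟨i, hi, hev⟩ := h0
    have hpi : D.p i = X - C c :=
      (eq_of_monic_of_associated (monic_X_sub_C c) (D.monic i)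
        ((irreducible_X_sub_C c).associated_of_dvd (D.irr i) (dvd_iff_isRoot.2 hev))).symm
    have hcard := D.card_ker_pow (X - C c) (monic_X_sub_C c) (irreducible_X_sub_C c) 1
    let _ : Unique {v : V // aeval b.toLinearMap ((X - C c : F[X]) ^ 1) v = 0} :=
      { default := ⟨0, map_zero _⟩
        uniq := fun v => Subtype.ext (hc v.1 (sub_eq_zero.1 (by simpa [Module.algebraMap_end_apply] using v.2))) }
    rw [Nat.card_unique, natDegree_X_sub_C, mul_one] at hcard
    rcases Nat.pow_eq_one.1 hcard.symm with h | h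
    · exact absurd h (Nat.ne_of_gt Fintype.one_lt_card)
    · have := (Finset.sum_eq_zero_iff.1 h) i (Finset.mem_univ _)
      rw [if_pos hpi, (Finset.mem_filter.1 hi).2] at this
      omega

theorem exists_hasData (h2 : (2 : F) ≠ 0) {B : BilinForm F V} (hA : B.IsAlt) (hB : B.Nondegenerate)
    (a : V ≃ₗ[F] V) (ha : ∀ u v, B (a u) (a v) = B u v) :
    ∃ μ μ' S S' Q, HasData B a μ μ' S S' Q ∧
      (∀ k, k ≠ 0 → (Q k).Monic ∧ (Q k).coeff 0 ≠ 0 ∧ recipPoly (Q k) = Q k ∧ (Q k).eval 1 ≠ 0 ∧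
        (Q k).eval (-1) ≠ 0 ∧ (Module.finrank F V < k → Q k = 1)) ∧
      μ.sum + μ'.sum + ∑ j : Fin (Module.finrank F V), (1 + (j : ℕ)) * (Q (1 + j)).natDegree =
        Module.finrank F V := by
  have hm : (-1 : F) * -1 = 1 := by ring
  obtain ⟨⟨hAK, hBK, haK⟩, hA1, hB1, ha1⟩ := restrict_gen hA hB a ha (one_mul 1)
  obtain ⟨⟨hAL, hBL, haL⟩, hA2, hB2, ha2⟩ := restrict_gen hA1 hB1 (onRan a 1) ha1 hm
  obtain ⟨μ, S, hμ⟩ := exists_partData h2 hAK hBK (onKer a 1) haK (one_mul 1) (nilpotent_onKer a 1)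
  obtain ⟨μ', S', hμ'⟩ := exists_partData h2 hAL hBL (onKer (onRan a 1) (-1)) haL hm (nilpotent_onKer _ _)
  obtain ⟨D⟩ := exists_decomp (onRan (onRan a 1) (-1)).toLinearMap
  have hfr : Module.finrank F (genRan (onRan a 1) (-1)) ≤ Module.finrank F V :=
    (Submodule.finrank_le _).trans (Submodule.finrank_le _)
  have hdata : HasData B a μ μ' S S' D.part := ⟨hμ, hμ', D, fun k _ => rfl⟩
  refine ⟨μ, μ', S, S', D.part, hdata, fun k hk => ?_, ?_⟩
  · obtain ⟨h0, hr, hev⟩ := part_props hB2 ha2 D k hk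
    refine ⟨D.part_monic k, h0, hr, hev 1 fun v hv => ?_, hev (-1) fun v hv => shiftEnd_onRan_injective _ _ v ?_,
      fun h => part_eq_one_of_lt D (lt_of_le_of_lt hfr h)⟩
    · refine Subtype.ext (shiftEnd_onRan_injective a 1 (v : genRan a 1) ?_)
      exact congrArg (fun w : genRan (onRan a 1) (-1) => ((w : genRan a 1) : V)) hv
    · exact congrArg Subtype.val hv
  · rw [sum_part_degree D hfr, hdata.finrank_rest]

end CfsgLib.ClassNumber
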