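import Cfsg.Agent.Lib.ClassCount.Symplectic.Count
import Cfsg.Agent.Lib.Classical.ClassTheory.SpModels

/-!
# The class number of `Sp` in odd characteristic

The signed tuples are counted by the coefficient of `t ^ n` in `∏ i, (1 + t ^ i) ^ 4 / (1 - q t ^ i)`,
which is at most `(54 / 5) q ^ n` for `q ≥ 3`.
-/

set_option autoImplicit false

namespace CfsgLib.ClassNumber

/-- `∏ (1 + 3 ^ (-k)) ^ 4` over `1 ≤ k ≤ L`. -/
def PA (L : ℕ) : ℚ := ∏ j ∈ Finset.range L, (1 + 1 / 3 ^ (j + 1)) ^ 4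

/-- `∏ 1 / (1 - 3 ^ (-k))` over `1 ≤ k ≤ L`. -/
def PB (L : ℕ) : ℚ := ∏ j ∈ Finset.range L, 1 / (1 - 1 / 3 ^ (j + 1))

/-- The bound for the series of the part of size `k`. -/
def GS (k : ℕ) : ℚ := (if Odd k then 1 else (1 + 1 / 3 ^ (k / 2)) ^ 4) * (1 / (1 - 1 / 3 ^ (k - 1)))

theorem three_pow_pos_bound (j : ℕ) :
    (1 : ℚ) / 3 ^ (j + 1) ≤ 1 / 3 ∧ 0 < (1 : ℚ) / 3 ^ (j + 1) := by
  refine ⟨one_div_le_one_div_of_le (by norm_num) ?_, by positivity⟩
  calc (3 : ℚ) = 3 ^ 1 := by norm_num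
    _ ≤ _ := pow_le_pow_right₀ (by norm_num) (by omega)

theorem PA_succ (L : ℕ) : PA (L + 1) = PA L * (1 + 1 / 3 ^ (L + 1)) ^ 4 := Finset.prod_range_succ _ _

theorem PB_succ (L : ℕ) : PB (L + 1) = PB L * (1 / (1 - 1 / 3 ^ (L + 1))) := Finset.prod_range_succ _ _

theorem PA_mono {a b : ℕ} (h : a ≤ b) : PA a ≤ PA b := by
  obtain ⟨d, rfl⟩ := Nat.exists_eq_add_of_le h
  induction d with
  | zero => exact le_rfl
  | succ d ih =>
    rw [show a + (d + 1) = (a + d) + 1 by omega, PA_succ]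
    refine (ih (by omega)).trans (le_mul_of_one_le_right (Finset.prod_nonneg fun j _ => by positivity) ?_)
    exact one_le_pow₀ (by linarith [(three_pow_pos_bound (a + d)).2])

theorem PB_nonneg (L : ℕ) : 0 ≤ PB L :=
  Finset.prod_nonneg fun j _ => div_nonneg zero_le_one (by linarith [(three_pow_pos_bound j).1])

theorem prod_GS (j : ℕ) : ∏ i ∈ Finset.range (2 * j + 1), GS (i + 2) = PA (j + 1) * PB (2 * j + 1) := by
  induction j with
  | zero => norm_num [GS, PA, PB, Nat.odd_iff]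
  | succ j ih =>
    rw [show 2 * (j + 1) + 1 = 2 * j + 1 + 1 + 1 by omega, Finset.prod_range_succ, Finset.prod_range_succ, ih,
      PA_succ (j + 1), PB_succ (2 * j + 1 + 1), PB_succ (2 * j + 1), GS, GS, if_pos (by rw [Nat.odd_iff]; omega),
      if_neg (by rw [Nat.odd_iff]; omega), show (2 * j + 1 + 1 + 2) / 2 = j + 1 + 1 by omega]
    simp only [show 2 * j + 1 + 2 - 1 = 2 * j + 1 + 1 by omega, show 2 * j + 1 + 1 + 2 - 1 = 2 * j + 1 + 1 + 1 by omega]
    ring

theorem PP_le_aux : ∀ k : ℕ, PA (k + 6) * PB (k + 6) ≤ PA 6 * PB 6 / (1 - 3 / 729) * (1 - 3 / 3 ^ (k + 6)) := by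
  intro k
  induction k with
  | zero =>
    rw [div_mul_eq_mul_div, le_div_iff₀ (by norm_num)]
    norm_num
  | succ k ih =>
    have h0 : (0 : ℚ) ≤ PA 6 * PB 6 / (1 - 3 / 729) :=
      div_nonneg (mul_nonneg (Finset.prod_nonneg fun j _ => by positivity) (PB_nonneg 6)) (by norm_num)
    obtain ⟨hy1, hy0⟩ := three_pow_pos_bound (k + 6)
    rw [show k + 1 + 6 = (k + 6) + 1 by omega, PA_succ, PB_succ,
      show PA (k + 6) * (1 + 1 / 3 ^ (k + 6 + 1)) ^ 4 * (PB (k + 6) * (1 / (1 - 1 / 3 ^ (k + 6 + 1)))) =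
        PA (k + 6) * PB (k + 6) * ((1 + 1 / 3 ^ (k + 6 + 1)) ^ 4 * (1 / (1 - 1 / 3 ^ (k + 6 + 1)))) by ring]
    have hF : (0 : ℚ) ≤ (1 + 1 / 3 ^ (k + 6 + 1)) ^ 4 * (1 / (1 - 1 / 3 ^ (k + 6 + 1))) :=
      mul_nonneg (by positivity) (div_nonneg zero_le_one (by linarith))
    refine (mul_le_mul_of_nonneg_right ih hF).trans ?_
    rw [mul_assoc]
    refine mul_le_mul_of_nonneg_left ?_ h0
    rw [show (3 : ℚ) / 3 ^ (k + 6) = 9 * (1 / 3 ^ (k + 6 + 1)) by rw [pow_succ]; ring,
      show (3 : ℚ) / 3 ^ (k + 6 + 1) = 3 * (1 / 3 ^ (k + 6 + 1)) by ring]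
    have hy2 : (1 : ℚ) / 3 ^ (k + 6 + 1) ≤ 1 / 2187 := by
      refine one_div_le_one_div_of_le (by norm_num) ?_
      calc (2187 : ℚ) = 3 ^ 7 := by norm_num
        _ ≤ _ := pow_le_pow_right₀ (by norm_num) (by omega)
    generalize (1 : ℚ) / 3 ^ (k + 6 + 1) = y at hy0 hy1 hy2 ⊢
    rw [← mul_assoc, mul_one_div, div_le_iff₀ (by linarith)]
    have h4 : (1 + y) ^ 4 ≤ 1 + 4 * y + 7 * y ^ 2 := by
      have hy2' : y * (4 + y) ≤ 1 := by nlinarith
      nlinarith [mul_le_mul_of_nonneg_left hy2' (sq_nonneg y)]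
    calc (1 - 9 * y) * (1 + y) ^ 4 ≤ (1 - 9 * y) * (1 + 4 * y + 7 * y ^ 2) :=
          mul_le_mul_of_nonneg_left h4 (by linarith)
      _ ≤ _ := by nlinarith [mul_pos hy0 hy0]

theorem PP_le (L : ℕ) : PA L * PB L ≤ 54 / 5 := by
  by_cases h : L < 6
  · interval_cases L <;> norm_num [PA, PB, Finset.prod_range_succ]
  · obtain ⟨k, rfl⟩ : ∃ k, L = k + 6 := ⟨L - 6, by omega⟩
    refine (PP_le_aux k).trans ((mul_le_of_le_one_right ?_ ?_).trans ?_)
    · norm_num [PA, PB, Finset.prod_range_succ]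
    · have : (0 : ℚ) ≤ 3 / 3 ^ (k + 6) := by positivity
      linarith
    · norm_num [PA, PB, Finset.prod_range_succ]

theorem NS_series_eq {K : Type*} [Field K] (q : ℕ) (u : K) (L : ℕ) :
    (1 - q * u ^ 2) * ∑ m ∈ Finset.range (2 * L + 1), (NS q m : K) * u ^ m =
      1 - q * u ^ 2 + (2 * u + (q + 1) * u ^ 2) * (1 - (q * u ^ 2) ^ L) := by
  induction L with
  | zero => simp [NS]
  | succ L ih =>
    rw [show 2 * (L + 1) + 1 = 2 * L + 1 + 1 + 1 by omega, Finset.sum_range_succ, Finset.sum_range_succ, mul_add,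
      mul_add, ih, NS, NS, if_neg (by omega), if_neg (by omega), show (2 * L + 1) / 2 = L by omega,
      show (2 * L + 1 - 1) / 2 = L by omega, show (2 * L + 1 + 1) / 2 = L + 1 by omega,
      show (2 * L + 1 + 1 - 1) / 2 = L by omega]
    push_cast
    simp only [mul_pow, ← pow_mul]
    ring

theorem WS_series_le {K : Type*} [Field K] [LinearOrder K] [IsStrictOrderedRing K] {q : ℕ} {u : K} (hu : 0 ≤ u) (hqu : (q : K) * u ^ 2 < 1) (M : ℕ) :
    ∑ m ∈ Finset.range M, (WS q m : K) * u ^ m ≤ (1 + u) ^ 4 * (1 / (1 - q * u ^ 2)) := by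
  set S : ℕ → K := fun M => ∑ m ∈ Finset.range M, (NS q m : K) * u ^ m
  have hmono : ∀ a b, a ≤ b → S a ≤ S b := fun a b h =>
    Finset.sum_le_sum_of_subset_of_nonneg (Finset.range_mono h) fun m _ _ => by positivity
  have hS : S M * (1 - q * u ^ 2) ≤ (1 + u) ^ 2 := by
    refine (mul_le_mul_of_nonneg_right (hmono M (2 * M + 1) (by omega)) (by linarith)).trans ?_
    rw [mul_comm, NS_series_eq]
    have : 0 ≤ (2 * u + ((q : K) + 1) * u ^ 2) * ((q : K) * u ^ 2) ^ M := by positivity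
    nlinarith
  have h1 : ∀ M, ∑ m ∈ Finset.range M, ((if 1 ≤ m then 2 * NS q (m - 1) else 0 : ℕ) : K) * u ^ m ≤ 2 * u * S M := by
    intro M
    rcases M with _ | M
    · simp [S]
    rw [Finset.sum_range_succ']
    refine le_trans (le_of_eq ?_) (mul_le_mul_of_nonneg_left (hmono M (M + 1) (by omega)) (by positivity))
    simp only [S, Finset.mul_sum]
    rw [if_neg (by omega), Nat.cast_zero, zero_mul, add_zero]
    refine Finset.sum_congr rfl fun m _ => ?_
    rw [if_pos (by omega), Nat.add_sub_cancel, pow_succ]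
    push_cast
    ring
  have h2 : ∀ M, ∑ m ∈ Finset.range M, ((if 2 ≤ m then NS q (m - 2) else 0 : ℕ) : K) * u ^ m ≤ u ^ 2 * S M := by
    intro M
    rcases M with _ | _ | M
    · simp [S]
    · simp [S]
      positivity
    rw [Finset.sum_range_succ', Finset.sum_range_succ']
    refine le_trans (le_of_eq ?_) (mul_le_mul_of_nonneg_left (hmono M (M + 1 + 1) (by omega)) (by positivity))
    simp only [S, Finset.mul_sum]
    rw [if_neg (by omega), if_neg (by omega), Nat.cast_zero, zero_mul, zero_mul, add_zero, add_zero]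
    refine Finset.sum_congr rfl fun m _ => ?_
    rw [if_pos (by omega), show m + 1 + 1 - 2 = m by omega]
    ring
  have hW : ∑ m ∈ Finset.range M, (WS q m : K) * u ^ m ≤ (1 + u) ^ 2 * S M := by
    simp only [WS, Nat.cast_add, add_mul, Finset.sum_add_distrib]
    refine (add_le_add (add_le_add le_rfl (h1 M)) (h2 M)).trans (le_of_eq ?_)
    show S M + _ + _ = _
    ring
  refine hW.trans ?_
  rw [mul_one_div, le_div_iff₀ (by linarith)]
  calc (1 + u) ^ 2 * S M * (1 - q * u ^ 2) = (1 + u) ^ 2 * (S M * (1 - q * u ^ 2)) := by ring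
    _ ≤ (1 + u) ^ 2 * (1 + u) ^ 2 := mul_le_mul_of_nonneg_left hS (by positivity)
    _ = _ := by ring

/-- The weight of the part of size `k`. -/
def wS (q k m : ℕ) : ℚ := (cS q k m : ℚ) * ((q : ℚ)⁻¹) ^ (k * m / 2)

theorem wS_nonneg (q k m : ℕ) : 0 ≤ wS q k m := by unfold wS; positivity

theorem wS_one_le {q : ℕ} (hq : 0 < q) (m : ℕ) : wS q 1 m ≤ 1 := by
  unfold wS cS
  rw [if_pos odd_one]
  split_ifs with h
  · simp
  · rw [one_mul, Nat.cast_pow, inv_pow, mul_inv_cancel₀ (by positivity)]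

theorem wS_series_le {q : ℕ} (hq : 3 ≤ q) (k : ℕ) (hk : 2 ≤ k) (M : ℕ) :
    ∑ m ∈ Finset.range M, wS q k m ≤ GS k := by
  have hq3 : (3 : ℚ) ≤ q := by exact_mod_cast hq
  have hq0 : (q : ℚ) ≠ 0 := by linarith
  set x : ℚ := ((q : ℚ)⁻¹) ^ (k - 1)
  have hx : x ≤ 1 / 3 ^ (k - 1) := by
    simp only [x, inv_pow, ← one_div]
    exact one_div_le_one_div_of_le (by positivity) (pow_le_pow_left₀ (by norm_num) hq3 _)
  have hy := three_pow_pos_bound (k - 2)
  rw [show k - 2 + 1 = k - 1 by omega] at hy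
  have hx1 : x < 1 := by linarith [hy.1]
  have hx0 : 0 ≤ x := by positivity
  have hgeo : (1 : ℚ) / (1 - x) ≤ 1 / (1 - 1 / 3 ^ (k - 1)) :=
    one_div_le_one_div_of_le (by linarith [hy.1]) (by linarith)
  rcases Nat.even_or_odd k with ⟨i, rfl⟩ | hodd
  · set u : ℚ := ((q : ℚ)⁻¹) ^ i
    have hqu : (q : ℚ) * u ^ 2 = x := by
      simp only [u, x, ← pow_mul]
      rw [show i * 2 = (i + i - 1) + 1 by omega, pow_succ, mul_left_comm, mul_inv_cancel₀ hq0, mul_one]
    have hno : ¬ Odd (i + i) := by rw [Nat.odd_iff]; omega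
    have hu : u ≤ 1 / 3 ^ ((i + i) / 2) := by
      simp only [u, show (i + i) / 2 = i by omega, inv_pow, ← one_div]
      exact one_div_le_one_div_of_le (by positivity) (pow_le_pow_left₀ (by norm_num) hq3 _)
    have hu0 : 0 ≤ u := by positivity
    have hterm : ∀ m, wS q (i + i) m = (WS q m : ℚ) * u ^ m := fun m => by
      simp only [wS, cS, if_neg hno, u, ← pow_mul, show (i + i) * m / 2 = i * m by
        rw [← two_mul, mul_assoc]; omega]
    simp only [hterm]
    refine (WS_series_le hu0 (by rw [hqu]; exact hx1) M).trans ?_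
    rw [hqu, GS, if_neg hno]
    exact mul_le_mul (pow_le_pow_left₀ (by positivity) (by linarith) 4) hgeo
      (div_nonneg zero_le_one (by linarith)) (by positivity)
  · rw [GS, if_pos hodd, one_mul]
    refine le_trans ?_ hgeo
    have hterm : ∀ m, wS q k m = if Odd m then 0 else x ^ (m / 2) := fun m => by
      simp only [wS, cS, if_pos hodd]
      split_ifs with h
      · simp
      · obtain ⟨l, rfl⟩ := Nat.not_odd_iff_even.1 h
        rw [show k * (l + l) / 2 = (k - 1) * l + l by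
          rw [← two_mul, mul_left_comm, Nat.mul_div_cancel_left _ (by norm_num)]
          conv_lhs => rw [show k = k - 1 + 1 by omega, add_mul, one_mul],
          show (l + l) / 2 = l by omega, Nat.cast_pow, pow_add, mul_left_comm, inv_pow (q : ℚ) l,
          mul_inv_cancel₀ (pow_ne_zero _ hq0), mul_one, ← pow_mul]
    simp only [hterm]
    have hex : ∀ L, (1 - x) * ∑ m ∈ Finset.range (2 * L), (if Odd m then 0 else x ^ (m / 2) : ℚ) = 1 - x ^ L := by
      intro L
      induction L with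
      | zero => simp
      | succ L ih =>
        rw [show 2 * (L + 1) = 2 * L + 1 + 1 by omega, Finset.sum_range_succ, Finset.sum_range_succ, mul_add,
          mul_add, ih, if_neg (by rw [Nat.odd_iff]; omega), if_pos (by rw [Nat.odd_iff]; omega),
          show 2 * L / 2 = L by omega, pow_succ]
        ring
    rw [le_div_iff₀ (by linarith), mul_comm]
    refine (mul_le_mul_of_nonneg_left (Finset.sum_le_sum_of_subset_of_nonneg
      (Finset.range_mono (show M ≤ 2 * M by omega)) fun m _ _ => by split_ifs <;> positivity) (by linarith)).trans ?_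
    rw [hex]
    linarith [pow_nonneg hx0 M]

/-- The count of the signed tuples. -/
noncomputable def TS (q n : ℕ) : ℕ := ∑ m ∈ sol (2 * n) 1 (2 * n), ∏ i : Fin (2 * n), cS q (1 + (i : ℕ)) (m i)

theorem TS_le {q n : ℕ} (hq : 3 ≤ q) (hn : 1 ≤ n) : 5 * TS q n ≤ 54 * q ^ n := by
  obtain ⟨j, rfl⟩ : ∃ j, n = j + 1 := ⟨n - 1, by omega⟩
  have hq3 : (3 : ℚ) ≤ q := by exact_mod_cast hq
  have hq0 : (q : ℚ) ≠ 0 := by linarith
  have key : ∀ l n : ℕ, l + 1 = 2 * n →
      ∑ m ∈ sol (l + 1) 1 (l + 1), ∏ i : Fin (l + 1), (cS q (1 + (i : ℕ)) (m i) : ℚ) ≤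
        (q : ℚ) ^ n * ∏ i ∈ Finset.range l, GS (i + 2) := by
    intro l n hl
    have hterm : ∀ m ∈ sol (l + 1) 1 (l + 1), ∏ i : Fin (l + 1), (cS q (1 + (i : ℕ)) (m i) : ℚ) ≤
        (q : ℚ) ^ n * ∏ i : Fin l, wS q ((i : ℕ) + 2) (Fin.tail m i) := fun m hm => by
      by_cases hz : ∃ i : Fin (l + 1), cS q (1 + (i : ℕ)) (m i) = 0
      · obtain ⟨i, hi⟩ := hz
        rw [Finset.prod_eq_zero (Finset.mem_univ i) (by rw [hi, Nat.cast_zero])]
        exact mul_nonneg (by positivity) (Finset.prod_nonneg fun i _ => wS_nonneg _ _ _)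
      simp only [not_exists] at hz
      have hev : ∀ i : Fin (l + 1), 2 * ((1 + (i : ℕ)) * m i / 2) = (1 + (i : ℕ)) * m i := fun i => by
        refine Nat.mul_div_cancel' (even_iff_two_dvd.1 ?_)
        rw [Nat.even_mul]
        by_cases hk : Odd (1 + (i : ℕ))
        · refine Or.inr (Nat.not_odd_iff_even.1 fun h => hz i ?_)
          rw [cS, if_pos hk, if_pos h]
        · exact Or.inl (Nat.not_odd_iff_even.1 hk)
      have hsum : ∑ i : Fin (l + 1), (1 + (i : ℕ)) * m i / 2 = n := by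
        have h := (mem_sol one_ne_zero _).1 hm
        have : 2 * ∑ i : Fin (l + 1), (1 + (i : ℕ)) * m i / 2 = 2 * n := by
          rw [Finset.mul_sum, Finset.sum_congr rfl fun i _ => hev i, h, hl]
        omega
      have e : ∏ i : Fin (l + 1), (cS q (1 + (i : ℕ)) (m i) : ℚ) =
          (q : ℚ) ^ n * ∏ i : Fin (l + 1), wS q (1 + (i : ℕ)) (m i) := by
        simp only [wS, Finset.prod_mul_distrib, Finset.prod_pow_eq_pow_sum, hsum]
        rw [mul_left_comm, inv_pow, mul_inv_cancel₀ (pow_ne_zero _ hq0), mul_one]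
      rw [e, Fin.prod_univ_succ]
      refine mul_le_mul_of_nonneg_left ?_ (by positivity)
      refine le_trans (mul_le_of_le_one_left (Finset.prod_nonneg fun i _ => wS_nonneg _ _ _) ?_) (le_of_eq ?_)
      · simpa using wS_one_le (q := q) (by omega) (m 0)
      · refine Finset.prod_congr rfl fun i _ => ?_
        rw [Fin.val_succ, show 1 + ((i : ℕ) + 1) = (i : ℕ) + 2 by omega]
        rfl
    have hinj : Set.InjOn (fun m : Fin (l + 1) → ℕ => Fin.tail m) (sol (l + 1) 1 (l + 1)) := fun a ha b hb hab => by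
      have ha' := (mem_sol one_ne_zero _).1 ha
      have hb' := (mem_sol one_ne_zero _).1 hb
      rw [Fin.sum_univ_succ] at ha' hb'
      simp only [Fin.val_zero, add_zero, one_mul] at ha' hb'
      have e : ∀ i : Fin l, a i.succ = b i.succ := fun i => congrFun hab i
      simp only [e] at ha'
      funext i
      refine Fin.cases ?_ e i
      omega
    refine (Finset.sum_le_sum hterm).trans ?_
    rw [← Finset.mul_sum]
    refine mul_le_mul_of_nonneg_left ?_ (by positivity)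
    rw [← Finset.sum_image hinj (f := fun t => ∏ i : Fin l, wS q ((i : ℕ) + 2) (t i))]
    refine (Finset.sum_le_sum_of_subset_of_nonneg (t := Fintype.piFinset fun _ : Fin l => Finset.range (l + 1 + 1))
      (fun t ht => ?_) fun t _ _ => Finset.prod_nonneg fun i _ => wS_nonneg _ _ _).trans ?_
    · obtain ⟨m, hm, rfl⟩ := Finset.mem_image.1 ht
      exact Fintype.mem_piFinset.2 fun i => Fintype.mem_piFinset.1 (Finset.mem_filter.1 hm).1 i.succ
    · rw [← Finset.prod_univ_sum, ← Fin.prod_univ_eq_prod_range]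
      exact Finset.prod_le_prod (fun i _ => Finset.sum_nonneg fun a _ => wS_nonneg _ _ _)
        fun i _ => wS_series_le hq _ (by omega) _
  have hG : ∏ i ∈ Finset.range (2 * j + 1), GS (i + 2) ≤ 54 / 5 := by
    rw [prod_GS]
    exact (mul_le_mul_of_nonneg_right (PA_mono (by omega)) (PB_nonneg _)).trans (PP_le _)
  have hT : (TS q (j + 1) : ℚ) ≤ (q : ℚ) ^ (j + 1) * (54 / 5) := by
    have h := (key (2 * j + 1) (j + 1) (by omega)).trans (mul_le_mul_of_nonneg_left hG (by positivity))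
    have hTS : TS q (j + 1) = ∑ m ∈ sol (2 * j + 1 + 1) 1 (2 * j + 1 + 1),
        ∏ i : Fin (2 * j + 1 + 1), cS q (1 + (i : ℕ)) (m i) := rfl
    rw [hTS]
    push_cast
    exact h
  have : ((5 * TS q (j + 1) : ℕ) : ℚ) ≤ ((54 * q ^ (j + 1) : ℕ) : ℚ) := by
    push_cast
    linarith
  exact_mod_cast this

universe u

variable {F : Type u} [Field F] [Fintype F]

theorem sp_class_bounds (hodd : Odd (Fintype.card F)) (n : ℕ) (hn : 1 ≤ n) :
    Fintype.card F ^ n ≤ Nat.card (ConjClasses (Matrix.symplecticGroup (Fin n) F)) ∧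
      5 * Nat.card (ConjClasses (Matrix.symplecticGroup (Fin n) F)) ≤ 54 * Fintype.card F ^ n := by
  obtain ⟨p, hpF⟩ := CharP.exists F
  obtain ⟨k, hpp, hk⟩ := FiniteField.card F p
  have : Fact p.Prime := ⟨hpp⟩
  have hp : p ≠ 2 := by
    rintro rfl
    rw [hk] at hodd
    exact Nat.not_even_iff_odd.2 hodd ((Nat.even_pow.2 ⟨even_two, k.ne_zero⟩))
  refine ⟨?_, ?_⟩
  · rw [← CfsgLib.Classical.ClassTheory.sp_semisimple_count (F := F) (p := p) rfl n]
    exact Nat.card_le_card_of_injective _ Subtype.val_injective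
  · have h2 : (2 : F) ≠ 0 := fun h => hp ((Nat.prime_dvd_prime_iff_eq hpp Nat.prime_two).1
      ((CharP.cast_eq_zero_iff F p 2).1 (by exact_mod_cast h)))
    have hq : 3 ≤ Fintype.card F := by
      have := Fintype.one_lt_card (α := F)
      rcases hodd with ⟨r, hr⟩
      omega
    refine (Nat.mul_le_mul_left 5 ((card_sp_classes_le hp n).trans (card_sgnTup_le h2 (2 * n)))).trans ?_
    exact TS_le hq hn

end CfsgLib.ClassNumber
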