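import Cfsg.Agent.Lib.ClassCount.Symplectic.Split

/-!
# Classes of `Sp` in odd characteristic against self-reciprocal tuples with signs
-/

set_option autoImplicit false

open Polynomial
open scoped Classical
open CfsgLib.Classical

namespace CfsgLib.ClassNumber

universe u

variable {F : Type u} [Field F]

theorem recipPoly_X_sub_C {c : F} (hc : c * c = 1) : recipPoly (X - C c) = X - C c := by
  have hc0 : c ≠ 0 := fun h => by simp [h] at hc
  ext k
  rcases Nat.lt_or_ge k 2 with hk | hk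
  · rw [coeff_recipPoly _ (by rw [natDegree_X_sub_C]; omega), natDegree_X_sub_C]
    have hi : (-c)⁻¹ = -c := inv_eq_of_mul_eq_one_right (by rw [neg_mul_neg, hc])
    interval_cases k <;> simp [coeff_X, coeff_C, hi, hc]
  · rw [coeff_eq_zero_of_natDegree_lt (n := k), coeff_eq_zero_of_natDegree_lt (n := k)]
    · rw [natDegree_X_sub_C]; omega
    · rw [natDegree_recipPoly (by simpa using hc0), natDegree_X_sub_C]; omega

theorem coeff_self {g : F[X]} (h : recipPoly g = g) {j : ℕ} (hj : j ≤ g.natDegree) :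
    g.coeff j = (g.coeff 0)⁻¹ * g.coeff (g.natDegree - j) := by
  conv_lhs => rw [← h]
  rw [coeff_recipPoly g hj]

theorem coeff_zero_self {g : F[X]} (hm : g.Monic) (h0 : g.coeff 0 ≠ 0) (h : recipPoly g = g) :
    g.coeff 0 = 1 ∨ g.coeff 0 = -1 := by
  have := coeff_zero_recipPoly hm
  rw [h] at this
  refine mul_self_eq_one_iff.1 ?_
  nth_rewrite 2 [this]
  exact mul_inv_cancel₀ h0

theorem self_no_root {g : F[X]} (h2 : (2 : F) ≠ 0) (h0 : g.coeff 0 ≠ 0) (h : recipPoly g = g)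
    (h1 : g.eval 1 ≠ 0) (hm1 : g.eval (-1) ≠ 0) : Even g.natDegree ∧ g.coeff 0 = 1 := by
  have key : ∀ c : F, c * c = 1 → g.eval c ≠ 0 → g.coeff 0 * c ^ g.natDegree = 1 := fun c hc hg => by
    let _ : Invertible c := ⟨c, hc, hc⟩
    have hr : g.reverse = C (g.coeff 0) * g := by
      have e : C (g.coeff 0) * recipPoly g = g.reverse := by
        rw [recipPoly, ← mul_assoc, ← C_mul, mul_inv_cancel₀ h0, C_1, one_mul]
      rw [← e, h]
    have e : g.reverse.eval c * c ^ g.natDegree = g.eval c :=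
      eval₂_reverse_mul_pow (RingHom.id F) c g
    rw [hr, eval_mul, eval_C] at e
    exact mul_right_cancel₀ hg (by rw [one_mul]; linear_combination e)
  have e1 := key 1 (one_mul 1) h1
  rw [one_pow, mul_one] at e1
  have e2 := key (-1) (by ring) hm1
  rw [e1, one_mul] at e2
  refine ⟨?_, e1⟩
  rcases Nat.even_or_odd g.natDegree with he | ho
  · exact he
  · exfalso
    rw [ho.neg_one_pow] at e2
    exact h2 (by linear_combination (-1 : F) * e2)

variable (F) in
/-- Self-reciprocal monic polynomials of degree `m`. -/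
abbrev SelfMon (m : ℕ) : Type u := {g : Mon F m // recipPoly g.1 = g.1}

/-- The bound for the number of self-reciprocal polynomials. -/
def NS (q m : ℕ) : ℕ := if m = 0 then 1 else q ^ (m / 2) + q ^ ((m - 1) / 2)

/-- The same, weighted by the signs at `1` and `-1`. -/
def WS (q m : ℕ) : ℕ :=
  NS q m + (if 1 ≤ m then 2 * NS q (m - 1) else 0) + if 2 ≤ m then NS q (m - 2) else 0

variable [Fintype F]

theorem card_self_one_le {m : ℕ} :
    Nat.card {g : SelfMon F m // g.1.1.coeff 0 = 1} ≤ Fintype.card F ^ (m / 2) := by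
  have hinj : Function.Injective fun g : {g : SelfMon F m // g.1.1.coeff 0 = 1} =>
      fun k : Fin (m / 2) => g.1.1.1.coeff ((k : ℕ) + 1) := fun g g' h => by
    refine Subtype.ext (Subtype.ext (Subtype.ext (Polynomial.ext fun j => ?_)))
    have hd := g.1.1.2.2.1
    have hd' := g'.1.1.2.2.1
    have hlow : ∀ j, 1 ≤ j → j ≤ m / 2 → g.1.1.1.coeff j = g'.1.1.1.coeff j := fun j h1 h2 => by
      have := congrFun h ⟨j - 1, by omega⟩
      simpa [show j - 1 + 1 = j by omega] using this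
    rcases Nat.eq_zero_or_pos j with rfl | hj
    · rw [g.2, g'.2]
    rcases lt_trichotomy j m with hjm | rfl | hjm
    · by_cases h2 : j ≤ m / 2
      · exact hlow j hj h2
      · rw [coeff_self g.1.2 (by rw [hd]; omega), coeff_self g'.1.2 (by rw [hd']; omega), g.2, g'.2, hd, hd',
          hlow _ (by omega) (by omega)]
    · have h1 := g.1.1.2.1.coeff_natDegree
      have h2 := g'.1.1.2.1.coeff_natDegree
      rw [hd] at h1
      rw [hd'] at h2
      rw [h1, h2]
    · rw [coeff_eq_zero_of_natDegree_lt (by omega), coeff_eq_zero_of_natDegree_lt (by omega)]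
  refine (Nat.card_le_card_of_injective _ hinj).trans_eq ?_
  rw [Nat.card_fun, Nat.card_fin, Nat.card_eq_fintype_card]

theorem card_self_neg_le (h2 : (2 : F) ≠ 0) {m : ℕ} :
    Nat.card {g : SelfMon F m // g.1.1.coeff 0 ≠ 1} ≤ if m = 0 then 0 else Fintype.card F ^ ((m - 1) / 2) := by
  split_ifs with hm
  · subst hm
    have : IsEmpty {g : SelfMon F 0 // g.1.1.coeff 0 ≠ 1} := ⟨fun g => g.2 (by
      rw [(g.1.1.2.1.natDegree_eq_zero).1 g.1.1.2.2.1, coeff_one_zero])⟩
    simp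
  have hneg : ∀ g : {g : SelfMon F m // g.1.1.coeff 0 ≠ 1}, g.1.1.1.coeff 0 = -1 := fun g =>
    (coeff_zero_self g.1.1.2.1 g.1.1.2.2.2 g.1.2).resolve_left g.2
  have hinj : Function.Injective fun g : {g : SelfMon F m // g.1.1.coeff 0 ≠ 1} =>
      fun k : Fin ((m - 1) / 2) => g.1.1.1.coeff ((k : ℕ) + 1) := fun g g' h => by
    refine Subtype.ext (Subtype.ext (Subtype.ext (Polynomial.ext fun j => ?_)))
    have hd := g.1.1.2.2.1
    have hd' := g'.1.1.2.2.1
    have hlow : ∀ j, 1 ≤ j → j ≤ (m - 1) / 2 → g.1.1.1.coeff j = g'.1.1.1.coeff j := fun j h1 h3 => by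
      have := congrFun h ⟨j - 1, by omega⟩
      simpa [show j - 1 + 1 = j by omega] using this
    rcases Nat.eq_zero_or_pos j with rfl | hj
    · rw [hneg, hneg]
    rcases lt_trichotomy j m with hjm | rfl | hjm
    · by_cases h3 : j ≤ (m - 1) / 2
      · exact hlow j hj h3
      by_cases h4 : 2 * j = m
      · have hz : ∀ f : {g : SelfMon F m // g.1.1.coeff 0 ≠ 1}, f.1.1.1.coeff j = 0 := fun f => by
          have e := coeff_self f.1.2 (j := j) (by rw [f.1.1.2.2.1]; omega)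
          rw [f.1.1.2.2.1, show m - j = j by omega, hneg, inv_neg_one, neg_one_mul] at e
          exact (mul_eq_zero.1 (show (2 : F) * f.1.1.1.coeff j = 0 by linear_combination e)).resolve_left h2
        rw [hz, hz]
      · rw [coeff_self g.1.2 (by rw [hd]; omega), coeff_self g'.1.2 (by rw [hd']; omega), hneg, hneg, hd, hd',
          hlow _ (by omega) (by omega)]
    · have h1 := g.1.1.2.1.coeff_natDegree
      have h3 := g'.1.1.2.1.coeff_natDegree
      rw [hd] at h1
      rw [hd'] at h3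
      rw [h1, h3]
    · rw [coeff_eq_zero_of_natDegree_lt (by omega), coeff_eq_zero_of_natDegree_lt (by omega)]
  refine (Nat.card_le_card_of_injective _ hinj).trans_eq ?_
  rw [Nat.card_fun, Nat.card_fin, Nat.card_eq_fintype_card]

theorem card_self_le (h2 : (2 : F) ≠ 0) (m : ℕ) : Nat.card (SelfMon F m) ≤ NS (Fintype.card F) m := by
  rw [← Nat.card_congr (Equiv.sumCompl fun g : SelfMon F m => g.1.1.coeff 0 = 1), Nat.card_sum]
  have a := card_self_one_le (F := F) (m := m)
  have b := card_self_neg_le h2 (m := m)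
  rw [NS]
  split_ifs with hm
  · subst hm
    simp only [Nat.zero_div, pow_zero, if_true] at a b
    exact Nat.add_le_add a b
  · rw [if_neg hm] at b
    exact Nat.add_le_add a b

theorem card_root_le {m : ℕ} (hm : 1 ≤ m) {c d : F} (hc : c * c = 1) :
    Nat.card {g : SelfMon F m // g.1.1.eval c = 0} ≤ Nat.card (SelfMon F (m - 1)) ∧
      (c ≠ d → Nat.card {g : SelfMon F m // g.1.1.eval c = 0 ∧ g.1.1.eval d = 0} ≤
        Nat.card {g : SelfMon F (m - 1) // g.1.1.eval d = 0}) := by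
  have hex : ∀ g : SelfMon F m, g.1.1.eval c = 0 → ∃ h : SelfMon F (m - 1), g.1.1 = (X - C c) * h.1.1 := fun g hg => by
    obtain ⟨h, hh⟩ := dvd_iff_isRoot.2 hg
    have hmon : h.Monic := (monic_X_sub_C c).of_mul_monic_left (hh ▸ g.1.2.1)
    have hdeg : h.natDegree = m - 1 := by
      have := g.1.2.2.1
      rw [hh, (monic_X_sub_C c).natDegree_mul hmon, natDegree_X_sub_C] at this
      omega
    have h0 : h.coeff 0 ≠ 0 := fun e => g.1.2.2.2 (by rw [hh, mul_coeff_zero, e, mul_zero])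
    refine ⟨⟨⟨h, hmon, hdeg, h0⟩, ?_⟩, hh⟩
    have e := g.2
    rw [hh, recipPoly_mul, recipPoly_X_sub_C hc] at e
    exact mul_left_cancel₀ (monic_X_sub_C c).ne_zero e
  choose f hf using hex
  constructor
  · refine Nat.card_le_card_of_injective (fun g => f g.1 g.2) fun g g' h => ?_
    refine Subtype.ext (Subtype.ext (Subtype.ext ?_))
    rw [hf g.1 g.2, hf g'.1 g'.2, show f g.1 g.2 = f g'.1 g'.2 from h]
  · intro hcd
    refine Nat.card_le_card_of_injective (fun g => ⟨f g.1 g.2.1, ?_⟩) fun g g' h => ?_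
    · have e := g.2.2
      rw [hf g.1 g.2.1, eval_mul, eval_sub, eval_X, eval_C] at e
      exact (mul_eq_zero.1 e).resolve_left (sub_ne_zero.2 (Ne.symm hcd))
    · refine Subtype.ext (Subtype.ext (Subtype.ext ?_))
      rw [hf g.1 g.2.1, hf g'.1 g'.2.1, show f g.1 g.2.1 = f g'.1 g'.2.1 from congrArg Subtype.val h]

/-- The condition on the polynomial and the signs of the part of size `k`. -/
def CellOK (k : ℕ) (g : F[X]) (s : Bool × Bool) : Prop :=
  recipPoly g = g ∧ (Odd k → Even g.natDegree ∧ g.coeff 0 = 1 ∧ s = (false, false)) ∧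
    (s.1 = true → g.eval 1 = 0) ∧ (s.2 = true → g.eval (-1) = 0)

variable (F) in
/-- The admissible polynomials of degree `m` with signs. -/
abbrev Cell (k m : ℕ) : Type u := {x : Mon F m × (Bool × Bool) // CellOK k x.1.1 x.2}

/-- The bound for a cell. -/
def cS (q k m : ℕ) : ℕ := if Odd k then (if Odd m then 0 else q ^ (m / 2)) else WS q m

theorem card_cell_le (h2 : (2 : F) ≠ 0) (k m : ℕ) : Nat.card (Cell F k m) ≤ cS (Fintype.card F) k m := by
  unfold cS
  split_ifs with hk hm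
  · have : IsEmpty (Cell F k m) := ⟨fun x => Nat.not_even_iff_odd.2 hm (x.1.1.2.2.1 ▸ (x.2.2.1 hk).1)⟩
    simp
  · refine le_trans (Nat.card_le_card_of_injective (fun x : Cell F k m =>
      (⟨⟨x.1.1, x.2.1⟩, (x.2.2.1 hk).2.1⟩ : {g : SelfMon F m // g.1.1.coeff 0 = 1})) fun x y h => ?_) card_self_one_le
    exact Subtype.ext (Prod.ext (congrArg (fun g : {g : SelfMon F m // g.1.1.coeff 0 = 1} => g.1.1) h)
      ((x.2.2.1 hk).2.2.trans (y.2.2.1 hk).2.2.symm))
  · let A := {g : SelfMon F m // g.1.1.eval 1 = 0}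
    let B := {g : SelfMon F m // g.1.1.eval (-1) = 0}
    let D := {g : SelfMon F m // g.1.1.eval 1 = 0 ∧ g.1.1.eval (-1) = 0}
    let tag : (SelfMon F m ⊕ A) ⊕ (B ⊕ D) → Mon F m × (Bool × Bool) := fun z => match z with
      | Sum.inl (Sum.inl g) => (g.1, (false, false))
      | Sum.inl (Sum.inr g) => (g.1.1, (true, false))
      | Sum.inr (Sum.inl g) => (g.1.1, (false, true))
      | Sum.inr (Sum.inr g) => (g.1.1, (true, true))
    have hsur : ∀ x : Cell F k m, ∃ z, tag z = x.1 := by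
      rintro ⟨⟨g, ⟨_ | _, _ | _⟩⟩, hg, -, hs1, hs2⟩
      · exact ⟨Sum.inl (Sum.inl ⟨g, hg⟩), rfl⟩
      · exact ⟨Sum.inr (Sum.inl ⟨⟨g, hg⟩, hs2 rfl⟩), rfl⟩
      · exact ⟨Sum.inl (Sum.inr ⟨⟨g, hg⟩, hs1 rfl⟩), rfl⟩
      · exact ⟨Sum.inr (Sum.inr ⟨⟨g, hg⟩, hs1 rfl, hs2 rfl⟩), rfl⟩
    choose z hz using hsur
    refine le_trans (Nat.card_le_card_of_injective z fun x y h => Subtype.ext (by rw [← hz, h, hz])) ?_
    rw [Nat.card_sum, Nat.card_sum, Nat.card_sum]
    have hm1 : (-1 : F) * -1 = 1 := by ring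
    have hne : (1 : F) ≠ -1 := fun h => h2 (by linear_combination h)
    have hS := card_self_le h2 m
    unfold WS
    rcases Nat.lt_or_ge m 1 with hm1' | hm1'
    · obtain rfl : m = 0 := by omega
      have e : ∀ g : SelfMon F 0, ∀ c : F, g.1.1.eval c ≠ 0 := fun g c => by
        rw [(g.1.2.1.natDegree_eq_zero).1 g.1.2.2.1, eval_one]; exact one_ne_zero
      have : IsEmpty A := ⟨fun g => e g.1 1 g.2⟩
      have : IsEmpty B := ⟨fun g => e g.1 _ g.2⟩
      have : IsEmpty D := ⟨fun g => e g.1 1 g.2.1⟩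
      simp only [Nat.card_of_isEmpty]
      omega
    · have hA : Nat.card A ≤ NS (Fintype.card F) (m - 1) :=
        (card_root_le hm1' (d := (1 : F)) (one_mul 1)).1.trans (card_self_le h2 _)
      have hB : Nat.card B ≤ NS (Fintype.card F) (m - 1) :=
        (card_root_le hm1' (d := (1 : F)) hm1).1.trans (card_self_le h2 _)
      have hD : Nat.card D ≤ if 2 ≤ m then NS (Fintype.card F) (m - 2) else 0 := by
        refine ((card_root_le hm1' (one_mul 1)).2 hne).trans ?_
        split_ifs with h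
        · exact (card_root_le (by omega) (d := (1 : F)) hm1).1.trans (card_self_le h2 _)
        · obtain rfl : m = 1 := by omega
          have : IsEmpty {g : SelfMon F 0 // g.1.1.eval (-1) = 0} := ⟨fun g => by
            have := g.2
            rw [(g.1.1.2.1.natDegree_eq_zero).1 g.1.1.2.2.1, eval_one] at this
            exact one_ne_zero this⟩
          simp
      rw [if_pos hm1']
      omega

/-- The tuples with signs. -/
abbrev SgnTup (F : Type u) [Field F] (N : ℕ) : Type u :=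
  {t : Tup F N × (Fin N → Bool × Bool) // ∀ i : Fin N, CellOK (1 + (i : ℕ)) (t.1.1 i) (t.2 i)}

theorem card_sgnTup_le (h2 : (2 : F) ≠ 0) (N : ℕ) :
    Nat.card (SgnTup F N) ≤ ∑ m ∈ sol N 1 N, ∏ i : Fin N, cS (Fintype.card F) (1 + (i : ℕ)) (m i) := by
  let f : SgnTup F N → Σ m : ↥(sol N 1 N), ∀ i : Fin N, Cell F (1 + (i : ℕ)) (m.1 i) := fun t =>
    ⟨⟨t.1.1.deg, (mem_sol one_ne_zero _).2 t.1.1.2.2⟩,
      fun i => ⟨(⟨t.1.1.1 i, (t.1.1.2.1 i).1, rfl, (t.1.1.2.1 i).2⟩, t.1.2 i), t.2 i⟩⟩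
  let g : (Σ m : ↥(sol N 1 N), ∀ i : Fin N, Cell F (1 + (i : ℕ)) (m.1 i)) →
      (Fin N → F[X]) × (Fin N → Bool × Bool) := fun z => (fun i => (z.2 i).1.1.1, fun i => (z.2 i).1.2)
  have hf : Function.Injective f := fun t t' h => by
    have e := congrArg g h
    exact Subtype.ext (Prod.ext (Subtype.ext (congrArg Prod.fst e :)) (congrArg Prod.snd e :))
  refine (Nat.card_le_card_of_injective f hf).trans ?_
  rw [Nat.card_sigma, Finset.univ_eq_attach]
  refine (Finset.sum_attach (sol N 1 N) fun m => Nat.card (∀ i : Fin N, Cell F (1 + (i : ℕ)) (m i))).trans_le ?_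
  refine Finset.sum_le_sum fun m _ => ?_
  rw [Nat.card_pi]
  exact Finset.prod_le_prod' fun i _ => card_cell_le h2 _ _

/-- `Q (X - 1) ^ a (X + 1) ^ b`. -/
noncomputable def joinPart (Q : F[X]) (a b : ℕ) : F[X] := Q * (X - C 1) ^ a * (X - C (-1)) ^ b

omit [Fintype F] in
theorem joinPart_props {Q : F[X]} (h2 : (2 : F) ≠ 0) (hm : Q.Monic) (h0 : Q.coeff 0 ≠ 0) (h1 : Q.eval 1 ≠ 0)
    (hm1 : Q.eval (-1) ≠ 0) (a b : ℕ) :
    (joinPart Q a b).Monic ∧ (joinPart Q a b).natDegree = Q.natDegree + a + b ∧ (joinPart Q a b).coeff 0 ≠ 0 ∧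
      (joinPart Q a b).rootMultiplicity 1 = a ∧ (joinPart Q a b).rootMultiplicity (-1) = b := by
  have hne : (1 : F) ≠ -1 := fun h => h2 (by linear_combination h)
  have ha := (monic_X_sub_C (1 : F)).pow a
  have hb := (monic_X_sub_C (-1 : F)).pow b
  have hab := (hm.mul ha).mul hb
  refine ⟨hab, ?_, ?_, ?_, ?_⟩
  · rw [joinPart, (hm.mul ha).natDegree_mul hb, hm.natDegree_mul ha, natDegree_pow, natDegree_pow,
      natDegree_X_sub_C, natDegree_X_sub_C, mul_one, mul_one]
  · rw [joinPart, mul_coeff_zero, mul_coeff_zero]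
    refine mul_ne_zero (mul_ne_zero h0 ?_) ?_ <;>
    · rw [coeff_zero_eq_eval_zero, eval_pow]
      exact pow_ne_zero _ (by simp)
  · rw [joinPart, rootMultiplicity_mul hab.ne_zero, rootMultiplicity_mul (hm.mul ha).ne_zero,
      rootMultiplicity_X_sub_C_pow, rootMultiplicity_eq_zero (p := Q) h1,
      rootMultiplicity_eq_zero (p := (X - C (-1)) ^ b), Nat.zero_add, Nat.add_zero]
    rw [IsRoot.def, eval_pow, eval_sub, eval_X, eval_C]
    exact pow_ne_zero _ (sub_ne_zero.2 hne)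
  · rw [joinPart, rootMultiplicity_mul hab.ne_zero, rootMultiplicity_mul (hm.mul ha).ne_zero,
      rootMultiplicity_X_sub_C_pow, rootMultiplicity_eq_zero (p := Q) hm1,
      rootMultiplicity_eq_zero (p := (X - C (1 : F)) ^ a), Nat.zero_add]
    rw [IsRoot.def, eval_pow, eval_sub, eval_X, eval_C]
    exact pow_ne_zero _ (sub_ne_zero.2 hne.symm)

theorem sum_mul_count {μ : Multiset ℕ} (hpos : ∀ a ∈ μ, 0 < a) {N : ℕ} (hN : μ.sum ≤ N) :
    ∑ j : Fin N, (1 + (j : ℕ)) * μ.count (1 + (j : ℕ)) = μ.sum := by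
  induction μ using Multiset.induction_on with
  | empty => simp
  | cons a μ ih =>
    rw [Multiset.sum_cons] at hN ⊢
    have h0 := hpos a (Multiset.mem_cons_self a μ)
    simp only [Multiset.count_cons, mul_add, Finset.sum_add_distrib]
    rw [ih (fun b hb => hpos b (Multiset.mem_cons_of_mem hb)) (by omega),
      Finset.sum_eq_single (⟨a - 1, by omega⟩ : Fin N) (fun j _ hj => by
        rw [if_neg, mul_zero]
        intro h
        exact hj (Fin.ext (by simp only; omega))) (by simp), if_pos (by simp only; omega)]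
    simp only
    omega

theorem card_sp_classes_le {p : ℕ} [Fact p.Prime] [CharP F p] (hp : p ≠ 2) (n : ℕ) :
    Nat.card (ConjClasses ↥(Matrix.symplecticGroup (Fin n) F)) ≤ Nat.card (SgnTup F (2 * n)) := by
  have h2 : (2 : F) ≠ 0 := fun h => hp ((Nat.prime_dvd_prime_iff_eq (Fact.out : p.Prime) Nat.prime_two).1
    ((CharP.cast_eq_zero_iff F p 2).1 (by exact_mod_cast h)))
  let S := Symp.symplecticEquiv n F
  have hB := Symp.sympBil_nondegenerate n F
  have hA := Symp.sympBil_isAlt n F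
  have hfr := Symp.finrank_sympSpace n F
  choose μ μ' S₁ S₂ Q hdata hQ hsum using fun C : ConjClasses ↥(Matrix.symplecticGroup (Fin n) F) =>
    exists_hasData h2 hA hB (S (Quotient.out C)).1 (S (Quotient.out C)).2
  have hμ := fun C => (hdata C).1.choose_spec.2.2
  have hμ' := fun C => (hdata C).2.1.choose_spec.2.2
  have hle : ∀ C, (μ C).sum ≤ 2 * n ∧ (μ' C).sum ≤ 2 * n := fun C => by
    have := hsum C
    rw [hfr] at this
    omega
  have hjp := fun C k (hk : k ≠ 0) a b =>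
    joinPart_props h2 (hQ C k hk).1 (hQ C k hk).2.1 (hQ C k hk).2.2.2.1 (hQ C k hk).2.2.2.2.1 a b
  let U : ∀ C, Tup F (2 * n) := fun C =>
    ⟨fun j : Fin (2 * n) => joinPart (Q C (1 + (j : ℕ))) ((μ C).count (1 + (j : ℕ))) ((μ' C).count (1 + (j : ℕ))),
      fun j => ⟨(hjp C _ (by omega) _ _).1, (hjp C _ (by omega) _ _).2.2.1⟩, by
      have e : (μ C).sum + (μ' C).sum +
          ∑ j : Fin (2 * n), (1 + (j : ℕ)) * (Q C (1 + (j : ℕ))).natDegree = 2 * n := by
        have e := hsum C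
        rw [Fin.sum_univ_eq_sum_range (fun j => (1 + j) * (Q C (1 + j)).natDegree)] at e ⊢
        rw [hfr] at e
        exact e
      conv_rhs => rw [← e, ← sum_mul_count (hμ C).1 (hle C).1, ← sum_mul_count (hμ' C).1 (hle C).2,
        ← Finset.sum_add_distrib, ← Finset.sum_add_distrib]
      refine Finset.sum_congr rfl fun j _ => ?_
      rw [(hjp C _ (by omega) _ _).2.1]
      ring⟩
  let sg : ∀ C, Fin (2 * n) → Bool × Bool := fun C j =>
    (decide (1 + (j : ℕ) ∈ S₁ C), decide (1 + (j : ℕ) ∈ S₂ C))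
  have hok : ∀ C (i : Fin (2 * n)), CellOK (1 + (i : ℕ)) ((U C).1 i) (sg C i) := fun C i => by
    obtain ⟨hm, h0, hr, h1, hm1, -⟩ := hQ C (1 + (i : ℕ)) (by omega)
    refine ⟨?_, fun hodd => ?_, fun hs => ?_, fun hs => ?_⟩
    · show recipPoly (joinPart _ _ _) = joinPart _ _ _
      rw [joinPart, recipPoly_mul, recipPoly_mul, recipPoly_pow, recipPoly_pow, hr, recipPoly_X_sub_C (one_mul 1),
        recipPoly_X_sub_C (show (-1 : F) * -1 = 1 by ring)]
    · obtain ⟨hev, hc0⟩ := self_no_root h2 h0 hr h1 hm1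
      have he1 := (hμ C).2.2.1 _ hodd
      have he2 := (hμ' C).2.2.1 _ hodd
      refine ⟨?_, ?_, ?_⟩
      · show Even (joinPart _ _ _).natDegree
        rw [(hjp C _ (by omega) _ _).2.1]
        exact (hev.add he1).add he2
      · show (joinPart _ _ _).coeff 0 = 1
        rw [joinPart, mul_coeff_zero, mul_coeff_zero, hc0]
        simp [coeff_zero_eq_eval_zero, he1.neg_one_pow]
      · have hn : ∀ T : Finset ℕ, (∀ j ∈ T, Even j ∧ True) → (decide (1 + (i : ℕ) ∈ T)) = false := fun T hT =>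
          decide_eq_false fun h => Nat.not_even_iff_odd.2 hodd (hT _ h).1
        exact Prod.ext (hn _ fun j hj => ⟨((hμ C).2.2.2.1 j hj).1, trivial⟩)
          (hn _ fun j hj => ⟨((hμ' C).2.2.2.1 j hj).1, trivial⟩)
    · have hc := Multiset.one_le_count_iff_mem.2 ((hμ C).2.2.2.1 _ (of_decide_eq_true hs)).2
      show (joinPart _ _ _).eval 1 = 0
      rw [joinPart, eval_mul, eval_mul, eval_pow, eval_sub, eval_X, eval_C, sub_self,
        zero_pow (by omega), mul_zero, zero_mul]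
    · have hc := Multiset.one_le_count_iff_mem.2 ((hμ' C).2.2.2.1 _ (of_decide_eq_true hs)).2
      show (joinPart _ _ _).eval (-1) = 0
      rw [joinPart, eval_mul, eval_pow (p := X - Polynomial.C (-1 : F)), eval_sub, eval_X, eval_C, sub_self,
        zero_pow (by omega), mul_zero]
  refine Nat.card_le_card_of_injective (fun C => (⟨(U C, sg C), hok C⟩ : SgnTup F (2 * n))) fun C C' h => ?_
  have hU : ∀ i, (U C).1 i = (U C').1 i := fun i => congrArg (fun t : SgnTup F (2 * n) => t.1.1.1 i) h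
  have hs : ∀ i, sg C i = sg C' i := fun i => congrArg (fun t : SgnTup F (2 * n) => t.1.2 i) h
  have hcount : ∀ i : Fin (2 * n), (μ C).count (1 + (i : ℕ)) = (μ C').count (1 + (i : ℕ)) ∧
      (μ' C).count (1 + (i : ℕ)) = (μ' C').count (1 + (i : ℕ)) := fun i => by
    have e := hU i
    obtain ⟨-, -, -, a1, b1⟩ := hjp C (1 + (i : ℕ)) (by omega) ((μ C).count (1 + (i : ℕ))) ((μ' C).count (1 + (i : ℕ)))
    obtain ⟨-, -, -, a2, b2⟩ := hjp C' (1 + (i : ℕ)) (by omega) ((μ C').count (1 + (i : ℕ))) ((μ' C').count (1 + (i : ℕ)))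
    change joinPart _ _ _ = joinPart _ _ _ at e
    rw [e] at a1 b1
    exact ⟨a1.symm.trans a2, b1.symm.trans b2⟩
  have hext : ∀ (ν ν' : Multiset ℕ), (∀ a ∈ ν, 0 < a) → (∀ a ∈ ν', 0 < a) → ν.sum ≤ 2 * n → ν'.sum ≤ 2 * n →
      (∀ i : Fin (2 * n), ν.count (1 + (i : ℕ)) = ν'.count (1 + (i : ℕ))) → ν = ν' := by
    intro ν ν' hν hν' hs hs' he
    refine Multiset.ext.2 fun j => ?_
    by_cases hj : 1 ≤ j ∧ j ≤ 2 * n
    · have := he ⟨j - 1, by omega⟩
      simpa [show 1 + (j - 1) = j by omega] using this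
    · have key : ∀ ν : Multiset ℕ, (∀ a ∈ ν, 0 < a) → ν.sum ≤ 2 * n → ν.count j = 0 := fun ν h1 h3 =>
        Multiset.count_eq_zero.2 fun hm => hj ⟨h1 j hm, (Multiset.le_sum_of_mem hm).trans h3⟩
      rw [key ν hν hs, key ν' hν' hs']
  have eμ : μ C = μ C' := hext _ _ (hμ C).1 (hμ C').1 (hle C).1 (hle C').1 fun i => (hcount i).1
  have eμ' : μ' C = μ' C' := hext _ _ (hμ' C).1 (hμ' C').1 (hle C).2 (hle C').2 fun i => (hcount i).2
  have hmemlt : ∀ (ν : Multiset ℕ) (T : Finset ℕ), (∀ a ∈ ν, 0 < a) → ν.sum ≤ 2 * n → (∀ j ∈ T, Even j ∧ j ∈ ν) →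
      ∀ j ∈ T, ∃ i : Fin (2 * n), 1 + (i : ℕ) = j := fun ν T h1 h3 h4 j hj => by
    have := h1 j (h4 j hj).2
    have := (Multiset.le_sum_of_mem (h4 j hj).2).trans h3
    exact ⟨⟨j - 1, by omega⟩, by simp only; omega⟩
  have eS : S₁ C = S₁ C' := Finset.ext fun j => by
    constructor <;> intro hj
    · obtain ⟨i, rfl⟩ := hmemlt _ _ (hμ C).1 (hle C).1 (hμ C).2.2.2.1 j hj
      exact (decide_eq_decide.1 (congrArg Prod.fst (hs i))).1 hj
    · obtain ⟨i, rfl⟩ := hmemlt _ _ (hμ C').1 (hle C').1 (hμ C').2.2.2.1 j hj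
      exact (decide_eq_decide.1 (congrArg Prod.fst (hs i))).2 hj
  have eS' : S₂ C = S₂ C' := Finset.ext fun j => by
    constructor <;> intro hj
    · obtain ⟨i, rfl⟩ := hmemlt _ _ (hμ' C).1 (hle C).2 (hμ' C).2.2.2.1 j hj
      exact (decide_eq_decide.1 (congrArg Prod.snd (hs i))).1 hj
    · obtain ⟨i, rfl⟩ := hmemlt _ _ (hμ' C').1 (hle C').2 (hμ' C').2.2.2.1 j hj
      exact (decide_eq_decide.1 (congrArg Prod.snd (hs i))).2 hj
  have eQ : ∀ k, k ≠ 0 → Q C k = Q C' k := fun k hk => by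
    by_cases hkn : k ≤ 2 * n
    · have e := hU ⟨k - 1, by omega⟩
      change joinPart _ _ _ = joinPart _ _ _ at e
      simp only [show 1 + (k - 1) = k by omega, eμ, eμ', joinPart] at e
      exact mul_right_cancel₀ ((monic_X_sub_C (1 : F)).pow _).ne_zero
        (mul_right_cancel₀ ((monic_X_sub_C (-1 : F)).pow _).ne_zero e :)
    · rw [(hQ C k hk).2.2.2.2.2 (by omega), (hQ C' k hk).2.2.2.2.2 (by omega)]
  have hd : HasData (Symp.sympBil n F) (S (Quotient.out C)).1 (μ C') (μ' C') (S₁ C') (S₂ C') (Q C') := by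
    obtain ⟨h1, h3, D, hD⟩ := hdata C
    exact ⟨eμ ▸ eS ▸ h1, eμ' ▸ eS' ▸ h3, D, fun k hk => (hD k hk).trans (eQ k hk)⟩
  obtain ⟨f, hf, hfb⟩ := hd.exists_isometry hp h2 hA hB (S (Quotient.out C)).2 hA hB (S (Quotient.out C')).2 rfl
    (hdata C')
  rw [← Quotient.out_eq C, ← Quotient.out_eq C']
  refine Quotient.sound (isConj_iff.2 ⟨S.symm ⟨f, hfb⟩, mul_inv_eq_iff_eq_mul.2 (S.injective ?_)⟩)
  rw [map_mul, map_mul, MulEquiv.apply_symm_apply]
  exact Subtype.ext (LinearEquiv.ext hf)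

end CfsgLib.ClassNumber
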